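import Mathlib
import Groth.Prelude.Def_Cyc
import Groth.Agent.Lib.Helper18.Cyc.PullComp
import Groth.Agent.Lib.Helper18.Push.BCDeg
import Groth.Agent.Lib.Helper24.FibreDim.EquidimConv

/-!
# Models of the fibres of a morphism

A *model of the fibre* of `f : X ⟶ Y` over `y` is a pullback square
`g : P ⟶ X`, `h : P ⟶ Spec κ(y)` of `f` along `Spec κ(y) ⟶ Y`.
-/

set_option autoImplicit false
set_option linter.style.haveILetI false
universe u
open AlgebraicGeometry CategoryTheory Limits IsLocalRing

namespace Groth.Agent.Lib.Helper18.AffFib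

open Groth.Agent.Lib.Helper18.CycPull Groth.Agent.Lib.Helper24.FibreDim
  Groth.Agent.Lib.Helper18.Push Groth.Agent.Lib.lead

variable {X Y P : Scheme.{u}} {f : X ⟶ Y} {y : Y} {g : P ⟶ X}
  {h : P ⟶ Spec (Y.residueField y)}

theorem isPreimmersion_g (sq : IsPullback g h f (Y.fromSpecResidueField y)) : IsPreimmersion g :=
  MorphismProperty.of_isPullback sq.flip inferInstance

theorem f_g (sq : IsPullback g h f (Y.fromSpecResidueField y)) (w : P) : f (g w) = y := by
  have h1 := congrArg (fun q => q w) sq.w
  simp only [Scheme.Hom.comp_apply] at h1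
  have h2 : (Y.fromSpecResidueField y) (h w) ∈ Set.range (Y.fromSpecResidueField y) := ⟨_, rfl⟩
  rw [Scheme.range_fromSpecResidueField] at h2
  rw [h1]
  exact h2

theorem range_g (sq : IsPullback g h f (Y.fromSpecResidueField y)) :
    Set.range g = f ⁻¹' {y} := by
  apply Set.Subset.antisymm
  · rintro _ ⟨w, rfl⟩
    exact f_g sq w
  · intro x hx
    have hx' : f x = (Y.fromSpecResidueField y) (IsLocalRing.closedPoint _) := by
      rw [Scheme.fromSpecResidueField_apply]
      exact hx
    obtain ⟨z, hz, -⟩ := Scheme.Pullback.exists_preimage_pullback x _ hx'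
    refine ⟨sq.isoPullback.inv z, ?_⟩
    rw [← Scheme.Hom.comp_apply, sq.isoPullback_inv_fst]
    exact hz

theorem compactSpace_P (sq : IsPullback g h f (Y.fromSpecResidueField y)) [QuasiCompact f] :
    CompactSpace P := by
  haveI : QuasiCompact h := MorphismProperty.of_isPullback sq inferInstance
  exact QuasiCompact.compactSpace_of_compactSpace h

theorem lft_h (sq : IsPullback g h f (Y.fromSpecResidueField y)) [LocallyOfFiniteType f] :
    LocallyOfFiniteType h := MorphismProperty.of_isPullback sq inferInstance

theorem trdeg_congr_hom {A B : Scheme.{u}} (a b : A ⟶ B) (e : a = b) (w : A) :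
    @Algebra.trdeg (B.residueField (a w)) (A.residueField w) _ _
      (a.residueFieldMap w).hom.toAlgebra =
    @Algebra.trdeg (B.residueField (b w)) (A.residueField w) _ _
      (b.residueFieldMap w).hom.toAlgebra := by
  subst e
  rfl

theorem trdeg_comp_left {A B C : Scheme.{u}} (j : A ⟶ B) (f : B ⟶ C) (w : A)
    (hj : Function.Bijective (j.residueFieldMap w).hom) :
    @Algebra.trdeg (C.residueField ((j ≫ f) w)) (A.residueField w) _ _
      ((j ≫ f).residueFieldMap w).hom.toAlgebra =
    @Algebra.trdeg (C.residueField (f (j w))) (B.residueField (j w)) _ _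
      (f.residueFieldMap (j w)).hom.toAlgebra := by
  show @Algebra.trdeg (C.residueField (f (j w))) (A.residueField w) _ _
      ((j ≫ f).residueFieldMap w).hom.toAlgebra = _
  letI a1 : Algebra (C.residueField (f (j w))) (B.residueField (j w)) :=
    (f.residueFieldMap (j w)).hom.toAlgebra
  letI a2 : Algebra (C.residueField (f (j w))) (A.residueField w) :=
    ((j ≫ f).residueFieldMap w).hom.toAlgebra
  symm
  refine NonDomainDim.trdeg_eq_of_ringEquiv (RingEquiv.refl _)
    (RingEquiv.ofBijective (j.residueFieldMap w).hom hj) ?_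
  intro r
  show (j.residueFieldMap w).hom ((f.residueFieldMap (j w)).hom r) =
    ((j ≫ f).residueFieldMap w).hom r
  rw [Scheme.residueFieldMap_comp]
  rfl

theorem trdeg_comp_right {A B C : Scheme.{u}} (a : A ⟶ B) (j : B ⟶ C) (w : A)
    (hj : Function.Bijective (j.residueFieldMap (a w)).hom) :
    @Algebra.trdeg (C.residueField ((a ≫ j) w)) (A.residueField w) _ _
      ((a ≫ j).residueFieldMap w).hom.toAlgebra =
    @Algebra.trdeg (B.residueField (a w)) (A.residueField w) _ _
      (a.residueFieldMap w).hom.toAlgebra := by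
  show @Algebra.trdeg (C.residueField (j (a w))) (A.residueField w) _ _
      ((a ≫ j).residueFieldMap w).hom.toAlgebra = _
  letI a1 : Algebra (B.residueField (a w)) (A.residueField w) :=
    (a.residueFieldMap w).hom.toAlgebra
  letI a2 : Algebra (C.residueField (j (a w))) (A.residueField w) :=
    ((a ≫ j).residueFieldMap w).hom.toAlgebra
  refine NonDomainDim.trdeg_eq_of_ringEquiv
    (RingEquiv.ofBijective (j.residueFieldMap (a w)).hom hj) (RingEquiv.refl _) ?_
  intro r
  show ((a ≫ j).residueFieldMap w).hom r =
    (a.residueFieldMap w).hom ((j.residueFieldMap (a w)).hom r)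
  rw [Scheme.residueFieldMap_comp]
  rfl

/-- The residue transcendence degree of a point of a fibre model over `κ(y)`. -/
theorem tr_h_eq (sq : IsPullback g h f (Y.fromSpecResidueField y)) [LocallyOfFiniteType f]
    (w : P) :
    haveI := lft_h sq
    tr h w = tr f (g w) := by
  haveI := lft_h sq
  haveI := isPreimmersion_g sq
  have h1 := trdeg_comp_left g f w (residueFieldMap_bijective_of_surjectiveOnStalks g w)
  have h2 := trdeg_comp_right h (Y.fromSpecResidueField y) w
    (residueFieldMap_bijective_of_surjectiveOnStalks _ _)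
  have h3 := trdeg_congr_hom _ _ sq.w w
  have h4 : ((tr h w : ℕ) : Cardinal.{u}) = (tr f (g w) : ℕ) := by
    rw [← tr_spec h w, ← tr_spec f (g w), ← h2, ← h1, h3]
  exact_mod_cast h4

/-- The induced dimension function on a fibre model is compatible with the constant function on
the point. -/
theorem deltaCompat_h (sq : IsPullback g h f (Y.fromSpecResidueField y)) [LocallyOfFiniteType f]
    (δX : X → ℤ) (δY : Y → ℤ) (hδ : Cyc.DeltaCompat f δX δY) :
    Cyc.DeltaCompat h (fun w => δX (g w)) (fun _ => δY y) := by
  haveI := lft_h sq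
  intro w
  refine ⟨tr h w, tr_spec h w, ?_⟩
  show δX (g w) = δY y + (tr h w : ℕ)
  rw [delta_eq_add_tr f δX δY hδ (g w), f_g sq w, tr_h_eq sq w]

/-- The restriction of a dimension function to a fibre model is a dimension function. -/
theorem isDimFun_comp (sq : IsPullback g h f (Y.fromSpecResidueField y)) (δX : X → ℤ)
    (hdX : Cyc.IsDimFun X δX) : Cyc.IsDimFun P (fun w => δX (g w)) := by
  haveI := isPreimmersion_g sq
  have hind := g.isEmbedding.isInducing
  intro w w' hsp hne
  have hsp' : g w ⤳ g w' := hsp.map g.continuous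
  have hne' : g w ≠ g w' := fun e => hne (g.isEmbedding.injective e)
  obtain ⟨h1, h2⟩ := hdX (g w) (g w') hsp' hne'
  refine ⟨h1, fun himm => h2 ?_⟩
  intro z hz1 hz2
  have hfz : f z = y := by
    have e1 : f (g w) ⤳ f z := hz1.map f.continuous
    have e2 : f z ⤳ f (g w') := hz2.map f.continuous
    rw [f_g sq] at e1 e2
    exact (e2.antisymm e1).eq
  have hzr : z ∈ Set.range g := by
    rw [range_g sq]
    exact hfz
  obtain ⟨z', rfl⟩ := hzr
  rcases himm z' (hind.specializes_iff.1 hz1) (hind.specializes_iff.1 hz2) with e | e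
  · exact Or.inl (by rw [e])
  · exact Or.inr (by rw [e])

end Groth.Agent.Lib.Helper18.AffFib
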