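import Mathlib
import Groth.Prelude.Def_Cyc
import Groth.Agent.Lib.Helper18.Aff.FibModel
import Groth.Agent.Lib.Helper18.Cyc.RatPres2
import Groth.Agent.Lib.Helper18.Cyc.RatAdd
import Groth.Agent.Lib.Helper18.Cyc.DivFamily
import Groth.Agent.Lib.Helper18.Bivar.FlatPull

/-!
# Surjectivity of flat pullback on Chow groups by induction on the defect

`f : X ⟶ Y` flat of relative dimension `r` with integral fibres whose Chow groups vanish below
dimension `r`: every `(k + r)`-cycle on `X` is rationally equivalent to a flat pullback.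
-/

set_option autoImplicit false
set_option linter.style.haveILetI false
universe u
open AlgebraicGeometry CategoryTheory Limits IsLocalRing

namespace Groth.Agent.Lib.Helper18.AffDefect

open Groth.Agent.Lib.Helper18.CycPull Groth.Agent.Lib.Helper24.FibreDim
  Groth.Agent.Lib.Helper18.Push Groth.Agent.Lib.lead Groth.Agent.Lib.Helper18.AffFib
  Groth.Agent.Lib.Helper18.CycDiv Groth.Agent.Lib.Helper18.BivarFlat

variable {X Y : Scheme.{u}}

/-- The hypothesis on the fibres: each fibre has an integral model whose Chow groups vanish below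
the relative dimension. -/
def FibHyp (f : X ⟶ Y) (δX : X → ℤ) (δY : Y → ℤ) (r : ℕ) : Prop :=
  ∀ y : Y, ∃ (P : Scheme.{u}) (g : P ⟶ X) (h : P ⟶ Spec (Y.residueField y)),
    IsPullback g h f (Y.fromSpecResidueField y) ∧ IsIntegral P ∧
    ∀ m : ℤ, m < δY y + r → ∀ c : AlgebraicCycle P ℤ, c ∈ Cyc.Zk P (fun w => δX (g w)) m →
      Cyc.RatEquivZero (fun w => δX (g w)) m c

section generic

variable {f : X ⟶ Y} {δX : X → ℤ} {δY : Y → ℤ} {y : Y} {P : Scheme.{u}} {g : P ⟶ X}
  {h : P ⟶ Spec (Y.residueField y)}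

/-- A point of maximal dimension in its fibre is the image of the generic point of the model. -/
theorem eq_generic (sq : IsPullback g h f (Y.fromSpecResidueField y)) [IsIntegral P]
    [LocallyOfFiniteType f] (hdX : Cyc.IsDimFun X δX) (hδ : Cyc.DeltaCompat f δX δY) (r : ℕ)
    (hr : Cyc.HasRelDim f r) (x : X) (hx : f x = y) (hxδ : δX x = δY y + r) :
    x = g (genericPoint P) := by
  have hxr : x ∈ Set.range g := by
    rw [range_g sq]
    exact hx
  obtain ⟨w, rfl⟩ := hxr
  by_contra hne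
  have hsp : g (genericPoint P) ⤳ g w :=
    (_root_.genericPoint_specializes w).map g.continuous
  have h1 := (hdX (g (genericPoint P)) (g w) hsp (fun e => hne e.symm)).1
  have h2 := delta_eq_add_tr f δX δY hδ (g (genericPoint P))
  have h3 := tr_le_of_hasRelDim f r hr (g (genericPoint P))
  rw [f_g sq] at h2
  have h3' : ((tr f (g (genericPoint P)) : ℕ) : ℤ) ≤ r := by exact_mod_cast h3
  omega

/-- The fibre length at the image of the generic point of an integral model is one. -/
theorem fibLen_generic (sq : IsPullback g h f (Y.fromSpecResidueField y)) [IsIntegral P] :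
    Module.length (X.presheaf.stalk (g (genericPoint P)))
      (X.presheaf.stalk (g (genericPoint P)) ⧸
        Ideal.map (f.stalkMap (g (genericPoint P))).hom
          (maximalIdeal (Y.presheaf.stalk (f (g (genericPoint P)))))) = 1 := by
  rw [← fibLen_eq_of_isPullback sq (genericPoint P)]
  have h1 := fibLen_eq_of_field (Y.residueField y) (Field.toIsField _) h (genericPoint P)
  unfold fibLen fibIdeal at h1
  rw [h1]
  have hfield : IsField (P.presheaf.stalk (genericPoint P)) :=
    Field.toIsField (P.functionField)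
  letI := hfield.toField
  rw [Module.length_eq_one_iff]
  have e : (P.presheaf.stalk (genericPoint P) ⧸ (⊥ : Ideal (P.presheaf.stalk (genericPoint P))))
      ≃ₗ[P.presheaf.stalk (genericPoint P)] P.presheaf.stalk (genericPoint P) :=
    Submodule.quotEquivOfEqBot ⊥ rfl
  exact IsSimpleModule.congr e

end generic

section step

/-- The restriction of a cycle along a preimmersion. -/
noncomputable def restrictCycle {P : Scheme.{u}} (g : P ⟶ X) [IsPreimmersion g]
    (β : AlgebraicCycle X ℤ) : AlgebraicCycle P ℤ where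
  toFun w := β (g w)
  supportWithinDomain' := Set.subset_univ _
  supportLocallyFiniteWithinDomain' := fun w _ => by
    obtain ⟨t, ht, hfin⟩ := β.supportLocallyFiniteWithinDomain' (g w) trivial
    refine ⟨g ⁻¹' t, g.continuous.continuousAt.preimage_mem_nhds ht, ?_⟩
    exact (hfin.preimage (g.isEmbedding.injective.injOn)).subset (fun w' hw' => ⟨hw'.1, hw'.2⟩)

theorem restrictCycle_apply {P : Scheme.{u}} (g : P ⟶ X) [IsPreimmersion g]
    (β : AlgebraicCycle X ℤ) (w : P) : restrictCycle g β w = β (g w) := rfl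

/-- A locally finite family of points of a compact space is finite. -/
theorem finite_of_compact {T : Type*} [TopologicalSpace T] [CompactSpace T] {J : Type*}
    (w : J → T)
    (hlf : ∀ x : T, ∃ U : Set T, IsOpen U ∧ x ∈ U ∧ {j | (closure {w j} ∩ U).Nonempty}.Finite) :
    Finite J := by
  choose U hUo hxU hfin using hlf
  obtain ⟨t, ht⟩ := isCompact_univ.elim_finite_subcover U hUo
    (fun x _ => Set.mem_iUnion.2 ⟨x, hxU x⟩)
  have hsub : (Set.univ : Set J) ⊆ ⋃ x ∈ t, {j | (closure {w j} ∩ U x).Nonempty} := by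
    intro j _
    have := ht (Set.mem_univ (w j))
    simp only [Set.mem_iUnion, exists_prop] at this ⊢
    obtain ⟨x, hxt, hx⟩ := this
    exact ⟨x, hxt, w j, subset_closure rfl, hx⟩
  exact Set.finite_univ_iff.1 ((t.finite_toSet.biUnion (fun x _ => hfin x)).subset hsub)

variable (f : X ⟶ Y) [LocallyOfFiniteType f] [QuasiCompact f] (δX : X → ℤ) (δY : Y → ℤ) (r : ℕ)

/-- The part of a cycle lying in a fibre of dimension below `r` is the restriction to the fibre
of a sum of principal divisors of subvarieties lying over the closure of the point. -/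
theorem fibre_pres (hfib : FibHyp f δX δY r) (k : ℤ) (β : AlgebraicCycle X ℤ)
    (hβ : β ∈ Cyc.Zk X δX (k + r)) (y : Y) (hy : k < δY y) :
    ∃ F : X → ℤ, RatPres δX (k + r) F (f ⁻¹' closure {y}) ∧ ∀ x, f x = y → F x = β x := by
  obtain ⟨P, g, h, sq, hint, H2⟩ := hfib y
  haveI := isPreimmersion_g sq
  haveI := compactSpace_P sq
  have hc : restrictCycle g β ∈ Cyc.Zk P (fun w => δX (g w)) (k + r) := fun w hw => hβ (g w) hw
  obtain ⟨J, w, φ, hwδ, hφ0, hlf, hsum⟩ := H2 (k + r) (by omega) (restrictCycle g β) hc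
  haveI : Finite J := finite_of_compact w hlf
  have hbij : ∀ j, Function.Bijective (g.residueFieldMap (w j)).hom := fun j =>
    residueFieldMap_bijective_of_surjectiveOnStalks g (w j)
  choose φ' hφ' using fun j => (hbij j).2 (φ j)
  refine ⟨fun x => ∑ᶠ j, Cyc.divFun δX (g (w j)) (φ' j) x,
    ⟨J, fun j => g (w j), φ', hwδ, ?_, ?_, ?_, fun x => rfl⟩, ?_⟩
  · intro j h0
    apply hφ0 j
    rw [← hφ' j, h0, map_zero]
  · intro j
    show f (g (w j)) ∈ closure {y}
    rw [f_g sq]
    exact subset_closure rfl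
  · intro x
    exact ⟨Set.univ, isOpen_univ, trivial, Set.toFinite _⟩
  · intro x hx
    have hxr : x ∈ Set.range g := by
      rw [range_g sq]
      exact hx
    obtain ⟨w', rfl⟩ := hxr
    show ∑ᶠ j, Cyc.divFun δX (g (w j)) (φ' j) (g w') = β (g w')
    have hterm : ∀ j, Cyc.divFun δX (g (w j)) (φ' j) (g w') =
        Cyc.divFun (fun z => δX (g z)) (w j) (φ j) w' := fun j => by
      rw [divFun_preimmersion g δX (w j) (φ' j) w', hφ' j]
    simp only [hterm]
    exact (hsum w').symm

end step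

section pres

theorem RatPres.eq_zero_of_delta_ne {δ : X → ℤ} {k : ℤ} {F : X → ℤ} {S : Set X}
    (h : RatPres δ k F S) (x : X) (hx : δ x ≠ k) : F x = 0 := by
  obtain ⟨ι, ξ, φ, h1, -, -, -, h4⟩ := h
  rw [h4 x]
  apply finsum_eq_zero_of_forall_eq_zero
  intro i
  apply divFun_eq_zero_of_ne
  rw [h1 i]
  omega

theorem RatPres.mem_of_ne_zero {δ : X → ℤ} {k : ℤ} {F : X → ℤ} {S : Set X}
    (h : RatPres δ k F S) (hS : IsClosed S) (x : X) (hx : F x ≠ 0) : x ∈ S := by
  obtain ⟨ι, ξ, φ, -, -, h3, -, h4⟩ := h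
  rw [h4 x] at hx
  obtain ⟨i, hi⟩ : ∃ i, Cyc.divFun δ (ξ i) (φ i) x ≠ 0 := by
    by_contra hcon
    push_neg at hcon
    exact hx (finsum_eq_zero_of_forall_eq_zero hcon)
  have hsp := specializes_of_divFun_ne_zero δ (ξ i) (φ i) x hi
  exact hsp.mem_closed hS (h3 i)

theorem ratPres_zero (δ : X → ℤ) (k : ℤ) : RatPres δ k (fun _ => 0) ∅ :=
  ⟨PEmpty, PEmpty.elim, fun i => i.elim, fun i => i.elim, fun i => i.elim, fun i => i.elim,
    fun x => ⟨Set.univ, isOpen_univ, trivial, Set.toFinite _⟩,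
    fun x => (finsum_eq_zero_of_forall_eq_zero (fun i => i.elim)).symm⟩

end pres

section step2

variable (f : X ⟶ Y) [LocallyOfFiniteType f] [QuasiCompact f] (δX : X → ℤ) (δY : Y → ℤ) (r : ℕ)

/-- **The induction step**: the part of a cycle of maximal defect can be moved to lower defect. -/
theorem step [IsLocallyNoetherian X] (hdY : Cyc.IsDimFun Y δY) (hfib : FibHyp f δX δY r) (k : ℤ)
    (d : ℕ) (β : AlgebraicCycle X ℤ) (hβ : β ∈ Cyc.Zk X δX (k + r))
    (hdef : ∀ x, β x ≠ 0 → δY (f x) ≤ k + ((d + 1 : ℕ) : ℤ)) :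
    ∃ β₁ : AlgebraicCycle X ℤ, β₁ ∈ Cyc.Zk X δX (k + r) ∧
      (∀ x, β₁ x ≠ 0 → δY (f x) ≤ k + (d : ℤ)) ∧ Cyc.RatEquiv δX (k + r) β β₁ := by
  classical
  set 𝓨 : Set Y := {y | δY y = k + ((d + 1 : ℕ) : ℤ) ∧ ∃ x, f x = y ∧ β x ≠ 0} with h𝓨
  let S : Y → Set X := fun y => if y ∈ 𝓨 then f ⁻¹' closure {y} else ∅
  have hSpos : ∀ y, y ∈ 𝓨 → S y = f ⁻¹' closure {y} := fun y hy => if_pos hy
  have hSneg : ∀ y, y ∉ 𝓨 → S y = ∅ := fun y hy => if_neg hy
  have hSclosed : ∀ y, IsClosed (S y) := by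
    intro y
    by_cases hy : y ∈ 𝓨
    · rw [hSpos y hy]
      exact isClosed_closure.preimage f.continuous
    · rw [hSneg y hy]
      exact isClosed_empty
  have hex : ∀ y, ∃ F : X → ℤ, RatPres δX (k + r) F (S y) ∧
      (y ∈ 𝓨 → ∀ x, f x = y → F x = β x) ∧ (y ∉ 𝓨 → ∀ x, F x = 0) := by
    intro y
    by_cases hy : y ∈ 𝓨
    · obtain ⟨F, hF1, hF2⟩ := fibre_pres f δX δY r hfib k β hβ y (by rw [hy.1]; push_cast; omega)
      refine ⟨F, ?_, fun _ => hF2, fun h => absurd hy h⟩
      rw [hSpos y hy]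
      exact hF1
    · refine ⟨fun _ => 0, ?_, fun h => absurd h hy, fun _ _ => rfl⟩
      rw [hSneg y hy]
      exact ratPres_zero δX (k + r)
  choose F hF1 hF2 hF3 using hex
  have hlf : ∀ x : X, ∃ U : Set X, IsOpen U ∧ x ∈ U ∧ {y | (S y ∩ U).Nonempty}.Finite := by
    intro x
    obtain ⟨_, ⟨V, hV : IsAffineOpen V, rfl⟩, hxV, -⟩ :=
      Y.isBasis_affineOpens.exists_subset_of_mem_open (Set.mem_univ (f x)) isOpen_univ
    have hcomp : IsCompact (f ⁻¹' (V : Set Y)) :=
      QuasiCompact.isCompact_preimage _ V.isOpen hV.isCompact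
    have hfin := (Function.locallyFinsupp.locallyFiniteSupport β).finite_inter_support_of_isCompact
      hcomp
    refine ⟨f ⁻¹' V, V.isOpen.preimage f.continuous, hxV, (hfin.image f).subset ?_⟩
    rintro y ⟨x', hx'S, hx'V⟩
    have hy : y ∈ 𝓨 := by
      by_contra hy
      rw [hSneg y hy] at hx'S
      exact hx'S
    rw [hSpos y hy] at hx'S
    obtain ⟨x₀, hx₀, hβx₀⟩ := hy.2
    have hyV : y ∈ V := (specializes_iff_mem_closure.2 hx'S).mem_open V.isOpen hx'V
    refine ⟨x₀, ⟨?_, hβx₀⟩, hx₀⟩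
    show f x₀ ∈ V
    rw [hx₀]
    exact hyV
  have hG := ratPres_finsum S hSclosed hlf F hF1
  set G : X → ℤ := fun x => ∑ᶠ y, F y x with hGdef
  have hGlf : LocallyFiniteSupport G := hG.locallyFiniteSupport
  let γ : AlgebraicCycle X ℤ :=
    { toFun := G
      supportWithinDomain' := Set.subset_univ _
      supportLocallyFiniteWithinDomain' := fun z _ => hGlf z }
  have hγ : Cyc.RatEquivZero δX (k + r) γ := RatPres.ratEquivZero γ hG
  have hsub : ∀ x, (β - γ) x = β x - G x := fun x => rfl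
  refine ⟨β - γ, ?_, ?_, ?_⟩
  · intro x hx
    rw [hsub, hβ x hx, RatPres.eq_zero_of_delta_ne hG x hx, sub_zero]
  · intro x hx
    by_contra hcon
    push_neg at hcon
    have hxδ : δX x = k + r := by
      by_contra h
      apply hx
      rw [hsub, hβ x h, RatPres.eq_zero_of_delta_ne hG x h, sub_zero]
    have hGx : G x = F (f x) x := by
      apply finsum_eq_single
      intro y hy
      by_contra hne
      have hy𝓨 : y ∈ 𝓨 := by
        by_contra h
        exact hne (hF3 y h x)
      have hxS : x ∈ S y := RatPres.mem_of_ne_zero (hF1 y) (hSclosed y) x hne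
      rw [hSpos y hy𝓨] at hxS
      have hsp : y ⤳ f x := specializes_iff_mem_closure.2 hxS
      have := (hdY y (f x) hsp hy).1
      rw [hy𝓨.1] at this
      push_cast at this
      omega
    by_cases hfx : f x ∈ 𝓨
    · apply hx
      rw [hsub, hGx, hF2 (f x) hfx x rfl, sub_self]
    · have hβx : β x ≠ 0 := by
        intro h0
        apply hx
        rw [hsub, hGx, hF3 (f x) hfx x, h0, sub_zero]
      have h1 := hdef x hβx
      have h2 : δY (f x) ≠ k + ((d + 1 : ℕ) : ℤ) := fun h => hfx ⟨h, x, rfl, hβx⟩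
      push_cast at h1 h2
      omega
  · show Cyc.RatEquivZero δX (k + r) (β - (β - γ))
    refine ratEquivZero_of_eq δX (k + r) γ _ (fun x => ?_) hγ
    show G x = β x - (β x - G x)
    ring

end step2

section main

variable (f : X ⟶ Y) [LocallyOfFiniteType f] [QuasiCompact f] (δX : X → ℤ) (δY : Y → ℤ) (r : ℕ)

theorem ratEquivZero_zero (δ : X → ℤ) (k : ℤ) : Cyc.RatEquivZero δ k (0 : AlgebraicCycle X ℤ) :=
  ⟨PEmpty, PEmpty.elim, fun i => i.elim, fun i => i.elim, fun i => i.elim,
    fun x => ⟨Set.univ, isOpen_univ, trivial, Set.toFinite _⟩,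
    fun x => (finsum_eq_zero_of_forall_eq_zero (fun i => i.elim)).symm⟩

theorem ratEquiv_trans (δ : X → ℤ) (k : ℤ) (a b c : AlgebraicCycle X ℤ)
    (h1 : Cyc.RatEquiv δ k a b) (h2 : Cyc.RatEquiv δ k b c) : Cyc.RatEquiv δ k a c := by
  have h3 := ratEquivZero_add δ k (a - b) (b - c) h1 h2
  refine ratEquivZero_of_eq δ k _ _ (fun x => ?_) h3
  show (a x - b x) + (b x - c x) = a x - c x
  ring

/-- **The base case**: a cycle all of whose points are generic in their fibres is a flat
pullback. -/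
theorem base [IsLocallyNoetherian X] (hdX : Cyc.IsDimFun X δX) (hδ : Cyc.DeltaCompat f δX δY)
    (hr : Cyc.HasRelDim f r) (hfib : FibHyp f δX δY r) (k : ℤ) (β : AlgebraicCycle X ℤ)
    (hβ : β ∈ Cyc.Zk X δX (k + r)) (hdef : ∀ x, β x ≠ 0 → δY (f x) ≤ k) :
    ∃ α : AlgebraicCycle Y ℤ, α ∈ Cyc.Zk Y δY k ∧ ∀ x, β x = Cyc.pullFun f δX δY r ⇑α x := by
  classical
  have huniq : ∀ x x' : X, f x' = f x → δX x = δY (f x) + r → δX x' = δY (f x) + r → x' = x := by
    intro x x' hff hx hx'
    obtain ⟨P, g, h, sq, hint, -⟩ := hfib (f x)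
    haveI := hint
    rw [eq_generic sq hdX hδ r hr x rfl hx, eq_generic sq hdX hδ r hr x' hff hx']
  have hlen : ∀ x : X, δX x = δY (f x) + r →
      (Module.length (X.presheaf.stalk x) (X.presheaf.stalk x ⧸
        Ideal.map (f.stalkMap x).hom (maximalIdeal (Y.presheaf.stalk (f x))))).toNat = 1 := by
    intro x hx
    obtain ⟨P, g, h, sq, hint, -⟩ := hfib (f x)
    haveI := hint
    have e := eq_generic sq hdX hδ r hr x rfl hx
    have h1 := fibLen_generic sq
    rw [← e] at h1
    rw [h1]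
    rfl
  let α₀ : Y → ℤ := fun y =>
    if hy : δY y = k ∧ ∃ x, f x = y ∧ δX x = δY y + r then β (Classical.choose hy.2) else 0
  have hα₀ : ∀ x, δX x = δY (f x) + r → δY (f x) = k → α₀ (f x) = β x := by
    intro x hx hk
    have hy : δY (f x) = k ∧ ∃ x', f x' = f x ∧ δX x' = δY (f x) + r := ⟨hk, x, rfl, hx⟩
    simp only [α₀, dif_pos hy]
    have hs := Classical.choose_spec hy.2
    congr 1
    exact huniq x _ hs.1 hx hs.2
  have hα₀supp : ∀ y, α₀ y ≠ 0 → ∃ x, f x = y ∧ β x ≠ 0 := by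
    intro y hy
    by_cases hc : δY y = k ∧ ∃ x, f x = y ∧ δX x = δY y + r
    · simp only [α₀, dif_pos hc] at hy
      exact ⟨_, (Classical.choose_spec hc.2).1, hy⟩
    · simp only [α₀, dif_neg hc] at hy
      exact absurd rfl hy
  have hα₀lf : ∀ z : Y, ∃ t ∈ nhds z, (t ∩ Function.support α₀).Finite := by
    intro z
    obtain ⟨_, ⟨V, hV : IsAffineOpen V, rfl⟩, hzV, -⟩ :=
      Y.isBasis_affineOpens.exists_subset_of_mem_open (Set.mem_univ z) isOpen_univ
    have hcomp : IsCompact (f ⁻¹' (V : Set Y)) :=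
      QuasiCompact.isCompact_preimage _ V.isOpen hV.isCompact
    have hfin := (Function.locallyFinsupp.locallyFiniteSupport β).finite_inter_support_of_isCompact
      hcomp
    refine ⟨V, V.isOpen.mem_nhds hzV, (hfin.image f).subset ?_⟩
    rintro y ⟨hyV, hy⟩
    obtain ⟨x, hx, hβx⟩ := hα₀supp y hy
    refine ⟨x, ⟨?_, hβx⟩, hx⟩
    show f x ∈ V
    rw [hx]
    exact hyV
  let α : AlgebraicCycle Y ℤ :=
    { toFun := α₀
      supportWithinDomain' := Set.subset_univ _
      supportLocallyFiniteWithinDomain' := fun z _ => hα₀lf z }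
  have hαcoe : ∀ y, α y = α₀ y := fun y => rfl
  refine ⟨α, ?_, ?_⟩
  · intro y hy
    rw [hαcoe]
    simp only [α₀]
    rw [dif_neg]
    exact fun h => hy h.1
  · intro x
    unfold Cyc.pullFun
    by_cases hx : δX x = δY (f x) + r
    · rw [if_pos hx, hlen x hx, hαcoe]
      by_cases hk : δY (f x) = k
      · rw [hα₀ x hx hk]
        simp
      · have h1 : β x = 0 := hβ x (by rw [hx]; omega)
        have h2 : α₀ (f x) = 0 := by
          simp only [α₀]
          rw [dif_neg]
          exact fun h => hk h.1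
        rw [h1, h2, zero_mul]
    · rw [if_neg hx]
      by_contra hne
      apply hx
      have h1 : δX x = k + r := by
        by_contra h
        exact hne (hβ x h)
      have h2 := hdef x hne
      have h3 := delta_eq_add_tr f δX δY hδ x
      have h4 := tr_le_of_hasRelDim f r hr x
      have h5 : ((tr f x : ℕ) : ℤ) ≤ r := by exact_mod_cast h4
      omega

/-- **Surjectivity of flat pullback modulo rational equivalence** for a morphism whose fibres
have integral models with vanishing Chow groups below the relative dimension. -/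
theorem main [IsLocallyNoetherian X] (hdX : Cyc.IsDimFun X δX) (hdY : Cyc.IsDimFun Y δY)
    (hδ : Cyc.DeltaCompat f δX δY) (hr : Cyc.HasRelDim f r) (hfib : FibHyp f δX δY r) (k : ℤ)
    (β : AlgebraicCycle X ℤ) (hβ : β ∈ Cyc.Zk X δX (k + r)) :
    ∃ (α : AlgebraicCycle Y ℤ) (β' : AlgebraicCycle X ℤ), α ∈ Cyc.Zk Y δY k ∧
      ⇑β' = Cyc.pullFun f δX δY r ⇑α ∧ Cyc.RatEquiv δX (k + r) β β' := by
  have key : ∀ d : ℕ, ∀ β : AlgebraicCycle X ℤ, β ∈ Cyc.Zk X δX (k + r) →
      (∀ x, β x ≠ 0 → δY (f x) ≤ k + (d : ℤ)) →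
      ∃ (α : AlgebraicCycle Y ℤ) (β' : AlgebraicCycle X ℤ), α ∈ Cyc.Zk Y δY k ∧
        ⇑β' = Cyc.pullFun f δX δY r ⇑α ∧ Cyc.RatEquiv δX (k + r) β β' := by
    intro d
    induction d with
    | zero =>
      intro β hβ hdef
      obtain ⟨α, hα, hpt⟩ := base f δX δY r hdX hδ hr hfib k β hβ (by simpa using hdef)
      refine ⟨α, pullCycle f δX δY r α, hα, rfl, ?_⟩
      refine ratEquivZero_of_eq δX (k + r) 0 _ (fun x => ?_) (ratEquivZero_zero δX (k + r))
      show (0 : ℤ) = β x - Cyc.pullFun f δX δY r ⇑α x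
      rw [hpt x, sub_self]
    | succ d ih =>
      intro β hβ hdef
      obtain ⟨β₁, hβ₁, hdef₁, hrat⟩ := step f δX δY r hdY hfib k d β hβ hdef
      obtain ⟨α, β', hα, hβ', hrat'⟩ := ih β₁ hβ₁ hdef₁
      exact ⟨α, β', hα, hβ', ratEquiv_trans δX (k + r) β β₁ β' hrat hrat'⟩
  apply key r β hβ
  intro x hx
  have h1 : δX x = k + r := by
    by_contra h
    exact hx (hβ x h)
  have h3 := delta_eq_add_tr f δX δY hδ x
  omega

end main

end Groth.Agent.Lib.Helper18.AffDefect
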