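import Mathlib
import Groth.Prelude.Def_Cyc
import Groth.Agent.Lib.Helper18.Cyc.KeyLocal
import Groth.Agent.Lib.Helper18.Cyc.LocQuotFrac
import Groth.Agent.Lib.Helper18.Cyc.C1Core
import Groth.Agent.Lib.Helper18.Cyc.DivFinite
import Groth.Agent.Lib.Helper7.AffinePoints
import Groth.Agent.Lib.Helper24.Cat.LocQuotDim
import Groth.Agent.Lib.Helper18.Cyc.PullDiv

/-!
# Cycles on the spectrum of a principal ideal domain

On an integral affine scheme whose ring of functions is a principal ideal domain every cycle
supported away from the generic point is a principal divisor.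
-/

set_option autoImplicit false
set_option linter.style.haveILetI false
universe u
open AlgebraicGeometry CategoryTheory IsLocalRing

namespace Groth.Agent.Lib.Helper18.AffPID

open Groth.Agent.Lib.Helper18.CycDiv Groth.Agent.Lib.Helper18.C1Core
  Groth.Agent.Lib.Helper18.KeyGeo Groth.Agent.Lib.Helper7

/-- In a ring in which `span {a}` is a maximal ideal, `a` has order one. -/
theorem ord_eq_one_of_isMaximal {A : Type*} [CommRing A] (a : A)
    (h : (Ideal.span {a}).IsMaximal) : Ring.ord A a = 1 := by
  rw [Ring.ord, Module.length_eq_one_iff]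
  rw [isSimpleModule_iff_isSimpleModule_of_algebraMap_surjective (S := A ⧸ Ideal.span {a})
    Ideal.Quotient.mk_surjective]
  let := Ideal.Quotient.field (Ideal.span {a})
  exact instIsSimpleModule _

variable {X : Scheme.{u}} [IsIntegral X] [IsAffine X] [IsPrincipalIdealRing Γ(X, ⊤)]

/-- the prime of a point -/
noncomputable abbrev pr (x : X) : PrimeSpectrum Γ(X, ⊤) :=
  (isAffineOpen_top X).primeIdealOf ⟨x, trivial⟩

theorem pr_generic : (pr (genericPoint X)).asIdeal = ⊥ := by
  haveI : Nonempty (⊤ : X.Opens) := ⟨⟨genericPoint X, trivial⟩⟩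
  have h := (isAffineOpen_top X).primeIdealOf_genericPoint
  have h2 : pr (genericPoint X) = genericPoint (Spec Γ(X, ⊤)) := h
  rw [h2, genericPoint_eq_bot_of_affine]
  rfl

theorem pr_ne_bot {x : X} (hx : x ≠ genericPoint X) : (pr x).asIdeal ≠ ⊥ := by
  intro h
  apply hx
  have h1 : pr x = pr (genericPoint X) := PrimeSpectrum.ext (by rw [h, pr_generic])
  have h2 := AffPts.primeIdealOf_injective (isAffineOpen_top X) h1
  exact congrArg Subtype.val h2

theorem pr_isMaximal {x : X} (hx : x ≠ genericPoint X) : (pr x).asIdeal.IsMaximal :=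
  haveI := (pr x).isPrime
  IsPrime.to_maximal_ideal (pr_ne_bot hx)

theorem pr_le_iff (x y : X) : (pr x).asIdeal ≤ (pr y).asIdeal ↔ x ⤳ y :=
  AffPts.primeIdealOf_le_iff (isAffineOpen_top X) ⟨x, trivial⟩ ⟨y, trivial⟩

/-- Non-generic points are immediate specializations of the generic point. -/
theorem immediate {x : X} (hx : x ≠ genericPoint X) (z : X) (hz : z ⤳ x) :
    z = genericPoint X ∨ z = x := by
  by_cases hzη : z = genericPoint X
  · exact Or.inl hzη
  · right
    have h1 := (pr_le_iff z x).2 hz
    have h2 : (pr z).asIdeal = (pr x).asIdeal :=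
      (pr_isMaximal hzη).eq_of_le (pr x).isPrime.ne_top h1
    have h3 : pr z = pr x := PrimeSpectrum.ext h2
    exact congrArg Subtype.val (AffPts.primeIdealOf_injective (isAffineOpen_top X) h3)

theorem delta_generic (δ : X → ℤ) (hdim : Cyc.IsDimFun X δ) {x : X}
    (hx : x ≠ genericPoint X) : δ (genericPoint X) = δ x + 1 :=
  (hdim (genericPoint X) x (genericPoint_specializes x) (fun e => hx e.symm)).2
    (fun z _ hz => immediate hx z hz)

/-- a generator of the prime of a point -/
noncomputable def gen (x : X) : Γ(X, ⊤) := Submodule.IsPrincipal.generator (pr x).asIdeal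

theorem span_gen (x : X) : Ideal.span {gen x} = (pr x).asIdeal :=
  Ideal.span_singleton_generator _

theorem gen_ne_zero {x : X} (hx : x ≠ genericPoint X) : gen x ≠ 0 := by
  intro h
  apply pr_ne_bot hx
  rw [← span_gen, h]
  simp

/-- the germ of a function -/
noncomputable abbrev grm (x : X) : Γ(X, ⊤) →+* X.presheaf.stalk x :=
  (X.presheaf.germ ⊤ x trivial).hom

theorem span_grm_gen (x : X) :
    Ideal.span {grm x (gen x)} = maximalIdeal (X.presheaf.stalk x) := by
  letI := TopCat.Presheaf.algebra_section_stalk X.presheaf (⟨x, trivial⟩ : (⊤ : X.Opens))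
  haveI := (isAffineOpen_top X).isLocalization_stalk ⟨x, trivial⟩
  have h := IsLocalization.AtPrime.map_eq_maximalIdeal (pr x).asIdeal (X.presheaf.stalk x)
  rw [← span_gen, Ideal.map_span, Set.image_singleton] at h
  exact h

theorem isUnit_grm_gen {x x' : X} (hx : x ≠ genericPoint X) (hx' : x' ≠ genericPoint X)
    (hne : x ≠ x') : IsUnit (grm x' (gen x)) := by
  letI := TopCat.Presheaf.algebra_section_stalk X.presheaf (⟨x', trivial⟩ : (⊤ : X.Opens))
  haveI := (isAffineOpen_top X).isLocalization_stalk ⟨x', trivial⟩
  have h := IsLocalization.AtPrime.isUnit_to_map_iff (X.presheaf.stalk x') (pr x').asIdeal (gen x)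
  apply h.2
  intro hmem
  apply hne
  have h1 : (pr x).asIdeal ≤ (pr x').asIdeal := by
    rw [← span_gen, Ideal.span_singleton_le_iff_mem]
    exact hmem
  have h2 : (pr x).asIdeal = (pr x').asIdeal :=
    (pr_isMaximal hx).eq_of_le (pr x').isPrime.ne_top h1
  have h3 : pr x = pr x' := PrimeSpectrum.ext h2
  exact congrArg Subtype.val (AffPts.primeIdealOf_injective (isAffineOpen_top X) h3)

/-- the rational function defined by a global function -/
noncomputable def toK (a : Γ(X, ⊤)) : X.residueField (genericPoint X) :=
  (X.residue (genericPoint X)).hom (grm (genericPoint X) a)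

theorem specMap_grm (x : X) (a : Γ(X, ⊤)) :
    Cyc.specMap x (genericPoint X) (genericPoint_specializes x) (grm x a) = toK a := by
  unfold Cyc.specMap toK
  simp only [CommRingCat.hom_comp, RingHom.coe_comp, Function.comp_apply]
  congr 1
  exact TopCat.Presheaf.germ_stalkSpecializes_apply X.presheaf
    (show x ∈ (⊤ : X.Opens) from trivial) (genericPoint_specializes x) a

theorem toK_ne_zero {a : Γ(X, ⊤)} (ha : a ≠ 0) : toK a ≠ 0 := by
  intro h0
  rw [← specMap_grm (genericPoint X) a] at h0
  have hk := ker_specMap_eq_bot (genericPoint_specializes (genericPoint X)) rfl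
  have h1 : grm (genericPoint X) a ∈ RingHom.ker (Cyc.specMap (genericPoint X) (genericPoint X)
      (genericPoint_specializes (genericPoint X))) := h0
  rw [hk, Ideal.mem_bot] at h1
  haveI : Nonempty (⊤ : X.Opens) := ⟨⟨genericPoint X, trivial⟩⟩
  have hinj := germ_injective_of_isIntegral X (genericPoint X) (U := ⊤) trivial
  exact ha (hinj (by rw [h1, map_zero]))

section ord

variable [IsLocallyNoetherian X] (δ : X → ℤ) (hdim : Cyc.IsDimFun X δ)

include hdim in
theorem ordAt_gen_self {x : X} (hx : x ≠ genericPoint X) :
    Cyc.ordAt x (genericPoint X) (genericPoint_specializes x) (toK (gen x)) = 1 := by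
  have hd := krullDimLE_one_locQuot δ hdim
    (genericPoint_specializes x) (delta_generic δ hdim hx).symm
  rw [← specMap_grm x (gen x)]
  have hne : Cyc.specMap x (genericPoint X) (genericPoint_specializes x) (grm x (gen x)) ≠ 0 := by
    rw [specMap_grm]
    exact toK_ne_zero (gen_ne_zero hx)
  rw [ordAt_specMap (genericPoint_specializes x) hd (grm x (gen x)) hne]
  have hmax : (Ideal.span {Ideal.Quotient.mk (RingHom.ker (Cyc.specMap x (genericPoint X)
      (genericPoint_specializes x))) (grm x (gen x))}).IsMaximal := by
    have h1 : Ideal.span {Ideal.Quotient.mk (RingHom.ker (Cyc.specMap x (genericPoint X)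
        (genericPoint_specializes x))) (grm x (gen x))} =
        Ideal.map (Ideal.Quotient.mk (RingHom.ker (Cyc.specMap x (genericPoint X)
          (genericPoint_specializes x)))) (maximalIdeal (X.presheaf.stalk x)) := by
      rw [← span_grm_gen, Ideal.map_span, Set.image_singleton]
    rw [h1]
    apply Ideal.IsMaximal.map_of_surjective_of_ker_le Ideal.Quotient.mk_surjective
    rw [Ideal.mk_ker, ker_specMap_eq_bot (genericPoint_specializes x) rfl]
    exact bot_le
  rw [ord_eq_one_of_isMaximal _ hmax]
  rfl

theorem ordAt_gen_ne {x x' : X} (hx : x ≠ genericPoint X) (hx' : x' ≠ genericPoint X)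
    (hne : x ≠ x') :
    Cyc.ordAt x' (genericPoint X) (genericPoint_specializes x') (toK (gen x)) = 0 := by
  have hu := isUnit_grm_gen hx hx' hne
  refine ordAt_eq_zero_of_isUnit (genericPoint_specializes x') (toK (gen x)) hu.unit 1 ?_
  rw [Units.val_one, map_one, mul_one, IsUnit.unit_spec, specMap_grm]

end ord

/-- **Cycles away from the generic point of the spectrum of a principal ideal domain are
principal divisors.** -/
theorem pid_ratEquivZero [IsLocallyNoetherian X] (δ : X → ℤ) (hdim : Cyc.IsDimFun X δ) (m : ℤ)
    (hm : m < δ (genericPoint X)) (c : AlgebraicCycle X ℤ) (hc : c ∈ Cyc.Zk X δ m) :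
    Cyc.RatEquivZero δ m c := by
  classical
  have hfin : (Function.support ⇑c).Finite := by
    have := (Function.locallyFinsupp.locallyFiniteSupport c).finite_inter_support_of_isCompact
      (isCompact_univ (X := X))
    rwa [Set.univ_inter] at this
  have hsupp : ∀ x, c x ≠ 0 → x ≠ genericPoint X ∧ δ x = m := by
    intro x hx
    have h1 : δ x = m := by
      by_contra h
      exact hx (hc x h)
    refine ⟨?_, h1⟩
    intro h
    rw [h] at h1
    omega
  haveI : Finite {x : X // c x ≠ 0} := hfin.to_subtype
  refine ⟨{x : X // c x ≠ 0}, fun _ => genericPoint X, fun i => toK (gen i.1) ^ (c i.1),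
    ?_, ?_, ?_, ?_⟩
  · intro i
    rw [delta_generic δ hdim (hsupp i.1 i.2).1, (hsupp i.1 i.2).2]
  · intro i
    exact zpow_ne_zero _ (toK_ne_zero (gen_ne_zero (hsupp i.1 i.2).1))
  · intro x
    exact ⟨Set.univ, isOpen_univ, trivial, Set.toFinite _⟩
  · intro x'
    by_cases hx' : x' = genericPoint X
    · have h0 : c x' = 0 := by
        apply hc
        rw [hx']
        omega
      rw [h0]
      symm
      apply finsum_eq_zero_of_forall_eq_zero
      intro i
      apply divFun_eq_zero_of_ne
      show δ x' + 1 ≠ δ (genericPoint X)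
      rw [hx']
      omega
    · have hcond : genericPoint X ⤳ x' ∧ δ x' + 1 = δ (genericPoint X) :=
        ⟨genericPoint_specializes x', (delta_generic δ hdim hx').symm⟩
      have hterm : ∀ i : {x : X // c x ≠ 0},
          Cyc.divFun δ (genericPoint X) (toK (gen i.1) ^ (c i.1)) x' =
            if i.1 = x' then c i.1 else 0 := by
        intro i
        unfold Cyc.divFun
        rw [dif_pos hcond, ordAt_zpow]
        by_cases hi : i.1 = x'
        · rw [if_pos hi]
          have h1 := ordAt_gen_self δ hdim (hsupp i.1 i.2).1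
          have h2 : Cyc.ordAt x' (genericPoint X) hcond.1 (toK (gen i.1)) = 1 := by
            subst hi
            exact h1
          rw [h2, mul_one]
        · rw [if_neg hi]
          have h2 : Cyc.ordAt x' (genericPoint X) hcond.1 (toK (gen i.1)) = 0 :=
            ordAt_gen_ne (hsupp i.1 i.2).1 hx' hi
          rw [h2, mul_zero]
      simp only [hterm]
      by_cases hcx : c x' = 0
      · rw [hcx]
        symm
        apply finsum_eq_zero_of_forall_eq_zero
        intro i
        rw [if_neg]
        intro hi
        exact i.2 (hi ▸ hcx)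
      · rw [finsum_eq_single _ (⟨x', hcx⟩ : {x : X // c x ≠ 0})]
        · rw [if_pos rfl]
        · intro i hi
          rw [if_neg]
          intro h
          exact hi (Subtype.ext h)

end Groth.Agent.Lib.Helper18.AffPID
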