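import Mathlib
import Groth.Prelude.Def_Cyc
import Groth.Agent.Lib.Helper18.Aff.Defect
import Groth.Agent.Lib.Helper18.Aff.PID

/-!
# The affine line over an affine base: flat pullback is surjective on Chow groups
-/

set_option autoImplicit false
set_option linter.style.haveILetI false
universe u
open AlgebraicGeometry CategoryTheory Limits IsLocalRing Polynomial

namespace Groth.Agent.Lib.Helper18.AffA1

open Groth.Agent.Lib.Helper18.AffFib Groth.Agent.Lib.Helper18.AffDefect
  Groth.Agent.Lib.Helper18.AffPID Groth.Agent.Lib.Helper18.CycPull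
  Groth.Agent.Lib.Helper24.FibreDim

variable (R : Type u) [CommRing R]

/-- the projection `𝔸¹_R ⟶ Spec R` -/
noncomputable abbrev proj : Spec (CommRingCat.of R[X]) ⟶ Spec (CommRingCat.of R) :=
  Spec.map (CommRingCat.ofHom (algebraMap R R[X]))

instance flat_proj : Flat (proj R) := by
  rw [Flat.SpecMap_iff]
  exact RingHom.flat_algebraMap_iff.mpr inferInstance

instance lft_proj : LocallyOfFiniteType (proj R) := by
  rw [HasRingHomProperty.Spec_iff (P := @LocallyOfFiniteType)]
  exact RingHom.finiteType_algebraMap.mpr inferInstance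

/-- The spectrum of a polynomial ring over a field: the fibre model. -/
theorem exists_fibModel (b : Spec (CommRingCat.of R)) :
    ∃ (g : Spec (CommRingCat.of ((Spec (CommRingCat.of R)).residueField b)[X]) ⟶
        Spec (CommRingCat.of R[X])),
      IsPullback g
        (Spec.map (CommRingCat.ofHom (algebraMap ((Spec (CommRingCat.of R)).residueField b)
          ((Spec (CommRingCat.of R)).residueField b)[X])))
        (proj R) ((Spec (CommRingCat.of R)).fromSpecResidueField b) := by
  obtain ⟨φ, hφ⟩ := Spec.map_surjective ((Spec (CommRingCat.of R)).fromSpecResidueField b)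
  letI : Algebra R ((Spec (CommRingCat.of R)).residueField b) := φ.hom.toAlgebra
  letI := Polynomial.algebra (R := R) (A := (Spec (CommRingCat.of R)).residueField b)
  have hpo := CommRingCat.isPushout_of_isPushout R ((Spec (CommRingCat.of R)).residueField b) R[X]
    ((Spec (CommRingCat.of R)).residueField b)[X]
  have hpb := isPullback_SpecMap_of_isPushout _ _ _ _ hpo
  refine ⟨Spec.map (CommRingCat.ofHom (algebraMap R[X]
    ((Spec (CommRingCat.of R)).residueField b)[X])), ?_⟩
  have := hpb.flip
  rw [← hφ]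
  exact this

instance quasiCompact_proj : QuasiCompact (proj R) := inferInstance

/-- The dimension of the affine line over a field. -/
theorem dim_line (κ : Type u) [Field κ] :
    topologicalKrullDim (Spec (CommRingCat.of κ[X])) = 1 := by
  have h1 : topologicalKrullDim (Spec (CommRingCat.of κ[X])) = ringKrullDim κ[X] :=
    PrimeSpectrum.topologicalKrullDim_eq_ringKrullDim κ[X]
  rw [h1, Polynomial.ringKrullDim_of_isNoetherianRing, ringKrullDim_eq_zero_of_field]
  rfl

theorem hasRelDim_proj : Cyc.HasRelDim (proj R) 1 := by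
  intro b T hT
  obtain ⟨g, sq⟩ := exists_fibModel R b
  set P := Spec (CommRingCat.of ((Spec (CommRingCat.of R)).residueField b)[X]) with hP
  let e : P ≅ (proj R).fiber b := sq.isoPullback
  haveI : Nonempty ((proj R).fiber b) := ⟨e.hom (genericPoint P)⟩
  haveI : IsIntegral ((proj R).fiber b) := isIntegral_of_isOpenImmersion e.inv
  rw [irreducibleComponents_eq_singleton, Set.mem_singleton_iff] at hT
  subst hT
  have h1 : topologicalKrullDim ↥(Set.univ : Set ((proj R).fiber b)) =
      topologicalKrullDim ((proj R).fiber b) :=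
    IsHomeomorph.topologicalKrullDim_eq _ (Homeomorph.Set.univ ((proj R).fiber b)).isHomeomorph
  have h2 : topologicalKrullDim P = topologicalKrullDim ((proj R).fiber b) :=
    IsHomeomorph.topologicalKrullDim_eq _ (Scheme.homeoOfIso e).isHomeomorph
  rw [h1, ← h2, dim_line]
  rfl

/-- a non-generic point of the affine line -/
theorem exists_ne_generic (κ : Type u) [Field κ] :
    ∃ w : Spec (CommRingCat.of κ[X]), w ≠ genericPoint (Spec (CommRingCat.of κ[X])) := by
  have hp : (Ideal.span {(X : κ[X])}).IsPrime :=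
    (Ideal.span_singleton_prime Polynomial.X_ne_zero).2 Polynomial.prime_X
  refine ⟨(⟨Ideal.span {X}, hp⟩ : PrimeSpectrum κ[X]), ?_⟩
  rw [genericPoint_eq_bot_of_affine]
  intro h
  have h1 : Ideal.span {(X : κ[X])} = ⊥ := congrArg PrimeSpectrum.asIdeal h
  rw [Ideal.span_singleton_eq_bot] at h1
  exact Polynomial.X_ne_zero h1

/-- Cycles on the affine line over a field which avoid the generic point are rationally
equivalent to zero, for any dimension function bounded below by `c₁`. -/
theorem line_h2 (κ : Type u) [Field κ] (δP : Spec (CommRingCat.of κ[X]) → ℤ)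
    (hdP : Cyc.IsDimFun _ δP) (c₁ : ℤ) (hlow : ∀ w, c₁ ≤ δP w) (m : ℤ) (hm : m < c₁ + 1)
    (c : AlgebraicCycle (Spec (CommRingCat.of κ[X])) ℤ) (hc : c ∈ Cyc.Zk _ δP m) :
    Cyc.RatEquivZero δP m c := by
  haveI : IsPrincipalIdealRing Γ(Spec (CommRingCat.of κ[X]), ⊤) :=
    IsPrincipalIdealRing.of_surjective (Scheme.ΓSpecIso (CommRingCat.of κ[X])).inv.hom
      (ConcreteCategory.bijective_of_isIso (Scheme.ΓSpecIso _).inv).surjective
  apply pid_ratEquivZero δP hdP m ?_ c hc
  obtain ⟨w₀, hw₀⟩ := exists_ne_generic κ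
  have h1 : δP w₀ < δP (genericPoint _) :=
    (hdP (genericPoint _) w₀ (_root_.genericPoint_specializes w₀) (Ne.symm hw₀)).1
  have h2 := hlow w₀
  omega

section iso

variable {R} {X : Scheme.{u}} (f : X ⟶ Spec (CommRingCat.of R))
  (e : X ≅ Spec (CommRingCat.of R[X])) (he : e.hom ≫ proj R = f)

include he in
theorem flat_of_iso : Flat f := by
  rw [← he]
  infer_instance

include he in
theorem lft_of_iso : LocallyOfFiniteType f := by
  rw [← he]
  infer_instance

include he in
theorem quasiCompact_of_iso : QuasiCompact f := by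
  rw [← he]
  infer_instance

include he in
theorem exists_fibModel' (b : Spec (CommRingCat.of R)) :
    ∃ (g : Spec (CommRingCat.of ((Spec (CommRingCat.of R)).residueField b)[X]) ⟶ X),
      IsPullback g
        (Spec.map (CommRingCat.ofHom (algebraMap ((Spec (CommRingCat.of R)).residueField b)
          ((Spec (CommRingCat.of R)).residueField b)[X])))
        f ((Spec (CommRingCat.of R)).fromSpecResidueField b) := by
  obtain ⟨g, sq⟩ := exists_fibModel R b
  refine ⟨g ≫ e.inv, ?_⟩
  refine IsPullback.of_iso sq (Iso.refl _) e.symm (Iso.refl _) (Iso.refl _) ?_ ?_ ?_ ?_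
  · simp
  · simp
  · rw [← he]
    simp
  · simp

include he in
theorem hasRelDim_of_iso : Cyc.HasRelDim f 1 := by
  haveI := lft_of_iso f e he
  have hsq : IsPullback e.hom f (proj R) (𝟙 _) :=
    IsPullback.of_horiz_isIso ⟨by rw [he, Category.comp_id]⟩
  exact (Groth.Agent.Lib.lead.FibreDimBCLocal.S9358 (proj R) (𝟙 _) e.hom f hsq 1).2.2
    (hasRelDim_proj R)

include he in
theorem fibHyp_of_iso [LocallyOfFiniteType f] (δX : X → ℤ)
    (δB : Spec (CommRingCat.of R) → ℤ) (hdX : Cyc.IsDimFun X δX)
    (hδ : Cyc.DeltaCompat f δX δB) : FibHyp f δX δB 1 := by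
  intro b
  obtain ⟨g, sq⟩ := exists_fibModel' f e he b
  refine ⟨_, g, _, sq, inferInstance, ?_⟩
  intro m hm c hc
  have hdP := isDimFun_comp sq δX hdX
  refine line_h2 _ (fun w => δX (g w)) hdP (δB b) ?_ m (by push_cast at hm; exact hm) c hc
  intro w
  have h2 := delta_eq_add_tr f δX δB hδ (g w)
  rw [f_g sq] at h2
  have h3 : (0 : ℤ) ≤ (tr f (g w) : ℕ) := Int.natCast_nonneg _
  show δB b ≤ δX (g w)
  omega

include he in
/-- **Flat pullback along a morphism isomorphic to `𝔸¹_R ⟶ Spec R` is surjective modulo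
rational equivalence.** -/
theorem a1_main [IsLocallyNoetherian X] [LocallyOfFiniteType f] [QuasiCompact f] (δX : X → ℤ)
    (δB : Spec (CommRingCat.of R) → ℤ) (hdX : Cyc.IsDimFun X δX) (hdB : Cyc.IsDimFun _ δB)
    (hδ : Cyc.DeltaCompat f δX δB) (k : ℤ) (β : AlgebraicCycle X ℤ)
    (hβ : β ∈ Cyc.Zk X δX (k + (1 : ℕ))) :
    ∃ (α : AlgebraicCycle (Spec (CommRingCat.of R)) ℤ) (β' : AlgebraicCycle X ℤ),
      α ∈ Cyc.Zk _ δB k ∧ ⇑β' = Cyc.pullFun f δX δB (1 : ℕ) ⇑α ∧
      Cyc.RatEquiv δX (k + (1 : ℕ)) β β' :=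
  AffDefect.main f δX δB 1 hdX hdB hδ (hasRelDim_of_iso f e he)
    (fibHyp_of_iso f e he δX δB hdX hδ) k β hβ

end iso

end Groth.Agent.Lib.Helper18.AffA1
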