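import Mathlib
import Groth.Prelude.Def_Cyc
import Groth.Agent.Lib.Helper18.Aff.A1
import Groth.Agent.Lib.Helper18.Bivar.Envelope
import Groth.Agent.Lib.Helper18.Cyc.PullRat
import Groth.Agent.Lib.lead.DimFunPullback
import Groth.Agent.Lib.Helper12.CMCatC
import Groth.Agent.Lib.Helper21.CMKit
import Groth.Agent.Lib.Helper24.Loc.EssFTCatenary
import Groth.Agent.Lib.Helper24.Cat.UCScheme

/-!
# The Chow groups of affine space over a field vanish below the dimension
-/

set_option autoImplicit false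
set_option linter.style.haveILetI false
universe u
open AlgebraicGeometry CategoryTheory Limits IsLocalRing Polynomial

namespace Groth.Agent.Lib.Helper18.AffTower

open Groth.Agent.Lib.Helper18.AffFib Groth.Agent.Lib.Helper18.AffDefect
  Groth.Agent.Lib.Helper18.AffA1 Groth.Agent.Lib.Helper18.CycPull
  Groth.Agent.Lib.Helper24.FibreDim Groth.Agent.Lib.Helper18.CycDiv
  Groth.Agent.Lib.Helper18.BivarEnv Groth.Agent.Lib.Helper24 Groth.Agent.Lib.lead

theorem uc_field (K : Type u) [Field K] : CAlg.IsUniversallyCatenary K :=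
  Groth.Agent.Lib.Helper12.CMCat.isUniversallyCatenary_of_isCMRing K
    (Groth.Agent.Lib.Helper21.CMKit.isCM_of_isRegularRing K)

/-- The spectrum of a field with a constant function is a cycle setup. -/
theorem isSetup_spec_field (K : Type u) [Field K] (c₀ : ℤ) :
    Cyc.IsSetup (Spec (CommRingCat.of K)) (fun _ => c₀) := by
  refine ⟨inferInstance, ?_, ?_⟩
  · intro x
    have hU := isAffineOpen_top (Spec (CommRingCat.of K))
    have hΓ : CAlg.IsUniversallyCatenary Γ(Spec (CommRingCat.of K), ⊤) :=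
      UCScheme.uc_of_ringEquiv
        (Scheme.ΓSpecIso (CommRingCat.of K)).symm.commRingCatIsoToRingEquiv (uc_field K)
    letI := TopCat.Presheaf.algebra_section_stalk (Spec (CommRingCat.of K)).presheaf
      (⟨x, trivial⟩ : (⊤ : (Spec (CommRingCat.of K)).Opens))
    haveI : IsLocalization.AtPrime ((Spec (CommRingCat.of K)).presheaf.stalk x)
        (hU.primeIdealOf ⟨x, trivial⟩).asIdeal := hU.isLocalization_stalk ⟨x, trivial⟩
    haveI : Algebra.EssFiniteType Γ(Spec (CommRingCat.of K), ⊤)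
        ((Spec (CommRingCat.of K)).presheaf.stalk x) :=
      Algebra.EssFiniteType.of_isLocalization _ (hU.primeIdealOf ⟨x, trivial⟩).asIdeal.primeCompl
    exact EssFTCat.main Γ(Spec (CommRingCat.of K), ⊤) ((Spec (CommRingCat.of K)).presheaf.stalk x) hΓ
  · intro x y hxy hne
    haveI : Subsingleton (Spec (CommRingCat.of K)) := by
      show Subsingleton (PrimeSpectrum K)
      infer_instance
    exact absurd (Subsingleton.elim x y) hne

instance lft_struct (K : Type u) [Field K] (n : ℕ) : LocallyOfFiniteType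
    (Spec.map (CommRingCat.ofHom (algebraMap K (MvPolynomial (Fin n) K)))) := by
  rw [HasRingHomProperty.Spec_iff (P := @LocallyOfFiniteType)]
  exact RingHom.finiteType_algebraMap.mpr inferInstance

/-- One step of the tower `𝔸^{n+1}_K ⟶ 𝔸^n_K`. -/
theorem tower_step (K : Type u) [Field K] (n : ℕ)
    (δ : Spec (CommRingCat.of (MvPolynomial (Fin (n + 1)) K)) → ℤ) (c₀ : ℤ)
    (hδ : Cyc.DeltaCompat (Spec.map (CommRingCat.ofHom (algebraMap K
      (MvPolynomial (Fin (n + 1)) K)))) δ (fun _ => c₀)) :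
    ∃ (f : Spec (CommRingCat.of (MvPolynomial (Fin (n + 1)) K)) ⟶
        Spec (CommRingCat.of (MvPolynomial (Fin n) K)))
      (e : Spec (CommRingCat.of (MvPolynomial (Fin (n + 1)) K)) ≅
        Spec (CommRingCat.of (MvPolynomial (Fin n) K)[X]))
      (δB : Spec (CommRingCat.of (MvPolynomial (Fin n) K)) → ℤ),
      e.hom ≫ proj (MvPolynomial (Fin n) K) = f ∧
      Cyc.DeltaCompat (Spec.map (CommRingCat.ofHom (algebraMap K (MvPolynomial (Fin n) K))))
        δB (fun _ => c₀) ∧
      ∃ (_ : LocallyOfFiniteType f), Cyc.DeltaCompat f δ δB := by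
  let ψ := MvPolynomial.finSuccEquiv K n
  let i : CommRingCat.of (MvPolynomial (Fin n) K)[X] ≅
      CommRingCat.of (MvPolynomial (Fin (n + 1)) K) := ψ.symm.toRingEquiv.toCommRingCatIso
  let e : Spec (CommRingCat.of (MvPolynomial (Fin (n + 1)) K)) ≅
      Spec (CommRingCat.of (MvPolynomial (Fin n) K)[X]) := Scheme.Spec.mapIso i.op
  set f := e.hom ≫ proj (MvPolynomial (Fin n) K) with hf
  set sB := Spec.map (CommRingCat.ofHom (algebraMap K (MvPolynomial (Fin n) K))) with hsB
  have hcomp : f ≫ sB =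
      Spec.map (CommRingCat.ofHom (algebraMap K (MvPolynomial (Fin (n + 1)) K))) := by
    rw [hf, Category.assoc]
    show Spec.map i.hom ≫ Spec.map _ ≫ Spec.map _ = _
    rw [← Spec.map_comp, ← Spec.map_comp]
    congr 1
    apply CommRingCat.hom_ext
    refine RingHom.ext fun a => ?_
    show ψ.symm (algebraMap (MvPolynomial (Fin n) K) (MvPolynomial (Fin n) K)[X]
      (algebraMap K (MvPolynomial (Fin n) K) a)) = algebraMap K _ a
    rw [← IsScalarTower.algebraMap_apply K (MvPolynomial (Fin n) K) (MvPolynomial (Fin n) K)[X],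
      AlgEquiv.commutes]
  haveI : LocallyOfFiniteType f := lft_of_iso f e rfl
  let δB : Spec (CommRingCat.of (MvPolynomial (Fin n) K)) → ℤ := fun b => c₀ + (tr sB b : ℕ)
  have hδB : Cyc.DeltaCompat sB δB (fun _ => c₀) := fun b => ⟨tr sB b, tr_spec sB b, rfl⟩
  have hδf : Cyc.DeltaCompat f δ δB :=
    deltaCompat_cancel f sB δ δB (fun _ => c₀) (by rw [hcomp]; exact hδ) hδB
  exact ⟨f, e, δB, rfl, hδB, inferInstance, hδf⟩

/-- The induced dimension function on affine `n`-space is bounded by `n`. -/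
theorem delta_le (K : Type u) [Field K] : ∀ (n : ℕ)
    (δ : Spec (CommRingCat.of (MvPolynomial (Fin n) K)) → ℤ) (c₀ : ℤ)
    (_ : Cyc.DeltaCompat (Spec.map (CommRingCat.ofHom (algebraMap K (MvPolynomial (Fin n) K))))
      δ (fun _ => c₀)) (x : Spec (CommRingCat.of (MvPolynomial (Fin n) K))), δ x ≤ c₀ + n := by
  intro n
  induction n with
  | zero =>
    intro δ c₀ hδ x
    have h1 := delta_eq_add_tr _ δ (fun _ => c₀) hδ x
    have h2 : tr (Spec.map (CommRingCat.ofHom (algebraMap K (MvPolynomial (Fin 0) K)))) x = 0 := by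
      have hbij : Function.Bijective (algebraMap K (MvPolynomial (Fin 0) K)) :=
        (MvPolynomial.isEmptyAlgEquiv K (Fin 0)).symm.bijective
      haveI : IsIso (CommRingCat.ofHom (algebraMap K (MvPolynomial (Fin 0) K))) :=
        (ConcreteCategory.isIso_iff_bijective _).2 hbij
      haveI : IsIso (Spec.map (CommRingCat.ofHom (algebraMap K (MvPolynomial (Fin 0) K)))) :=
        inferInstance
      have h3 := tr_le_of_hasRelDim _ 0 (hasRelDim_zero_of_isFinite
        (Spec.map (CommRingCat.ofHom (algebraMap K (MvPolynomial (Fin 0) K))))) x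
      omega
    rw [h1, h2]
  | succ n ih =>
    intro δ c₀ hδ x
    obtain ⟨f, e, δB, he, hδB, hlft, hδf⟩ := tower_step K n δ c₀ hδ
    have h1 := delta_eq_add_tr f δ δB hδf x
    have h2 := tr_le_of_hasRelDim f 1 (hasRelDim_of_iso f e he) x
    have h3 := ih δB c₀ hδB (f x)
    have h4 : ((tr f x : ℕ) : ℤ) ≤ 1 := by exact_mod_cast h2
    push_cast
    omega

/-- **The Chow groups of affine `n`-space over a field vanish below dimension `n`.** -/
theorem affH2 (K : Type u) [Field K] : ∀ (n : ℕ)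
    (δ : Spec (CommRingCat.of (MvPolynomial (Fin n) K)) → ℤ) (c₀ : ℤ)
    (_ : Cyc.DeltaCompat (Spec.map (CommRingCat.ofHom (algebraMap K (MvPolynomial (Fin n) K))))
      δ (fun _ => c₀)) (m : ℤ) (_ : m < c₀ + n)
    (c : AlgebraicCycle (Spec (CommRingCat.of (MvPolynomial (Fin n) K))) ℤ)
    (_ : c ∈ Cyc.Zk _ δ m), Cyc.RatEquivZero δ m c := by
  intro n
  induction n with
  | zero =>
    intro δ c₀ hδ m hm c hc
    refine ratEquivZero_of_eq δ m 0 c (fun x => ?_) (ratEquivZero_zero δ m)
    symm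
    apply hc
    obtain ⟨n', -, hn'⟩ := hδ x
    have hn'' : δ x = c₀ + (n' : ℤ) := hn'
    push_cast at hm
    show δ x ≠ m
    omega
  | succ n ih =>
    intro δ c₀ hδ m hm c hc
    obtain ⟨f, e, δB, he, hδB, hlft, hδf⟩ := tower_step K n δ c₀ hδ
    haveI : Flat f := flat_of_iso f e he
    haveI : QuasiCompact f := quasiCompact_of_iso f e he
    have hsetup := isSetup_spec_field K c₀
    have hdA : Cyc.IsDimFun _ δ := DimFunPullback.main _ (fun _ => c₀) hsetup δ hδ
    have hdB : Cyc.IsDimFun _ δB := DimFunPullback.main _ (fun _ => c₀) hsetup δB hδB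
    have e1 : (m - 1) + ((1 : ℕ) : ℤ) = m := by
      push_cast
      ring
    have hc' : c ∈ Cyc.Zk _ δ ((m - 1) + ((1 : ℕ) : ℤ)) := e1.symm ▸ hc
    obtain ⟨α, β', hα, hβ', hrat⟩ := a1_main f e he δ δB hdA hdB hδf (m - 1) c hc'
    have hα0 := ih δB c₀ hδB (m - 1) (by push_cast at hm; omega) α hα
    have hβ'0 := ratEquivZero_pull f δ δB hdA hdB 1 (hasRelDim_of_iso f e he) hδf (m - 1) α hα0
      β' hβ'
    have hsum := ratEquivZero_add δ ((m - 1) + ((1 : ℕ) : ℤ)) (c - β') β' hrat hβ'0
    rw [e1] at hsum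
    refine ratEquivZero_of_eq δ m _ c (fun x => ?_) hsum
    show (c x - β' x) + β' x = c x
    ring

end Groth.Agent.Lib.Helper18.AffTower
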