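import Mathlib
import Groth.Prelude.Def_Cyc
import Groth.Agent.Lib.Helper18.Aff.Tower

/-!
# Morphisms which are locally on the target an affine space: fibre models
-/

set_option autoImplicit false
set_option linter.style.haveILetI false
universe u
open AlgebraicGeometry CategoryTheory Limits IsLocalRing

namespace Groth.Agent.Lib.Helper18.AffBundle

open Groth.Agent.Lib.Helper18.AffFib Groth.Agent.Lib.Helper18.AffDefect
  Groth.Agent.Lib.Helper18.AffTower

variable {X Y : Scheme.{u}} (f : X ⟶ Y) (r : ℕ)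

/-- `f` is, locally on the target, an affine space of relative dimension `r`. -/
def LocTriv : Prop :=
  ∀ y : Y, ∃ U : Y.Opens, y ∈ U ∧
    ∃ e : (↑(f ⁻¹ᵁ U) : Scheme.{u}) ≅ 𝔸(ULift.{u} (Fin r); (↑U : Scheme.{u})),
      e.hom ≫ (𝔸(ULift.{u} (Fin r); (↑U : Scheme.{u})) ↘ (↑U : Scheme.{u})) = f ∣_ U

theorem quasiCompact_of_locTriv (h : LocTriv f r) : QuasiCompact f := by
  choose U hyU e he using h
  have hcover : iSup U = ⊤ := by
    rw [eq_top_iff]
    intro y _
    exact TopologicalSpace.Opens.mem_iSup.2 ⟨y, hyU y⟩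
  rw [IsZariskiLocalAtTarget.iff_of_iSup_eq_top (P := @QuasiCompact) U hcover]
  intro y
  rw [← he y]
  infer_instance

/-- The fibre of a locally trivial affine bundle over `y` is the affine space over `κ(y)`. -/
theorem exists_fibModel (h : LocTriv f r) (y : Y) :
    ∃ (g : Spec (CommRingCat.of (MvPolynomial (Fin r) (Y.residueField y))) ⟶ X),
      IsPullback g (Spec.map (CommRingCat.ofHom (algebraMap (Y.residueField y)
        (MvPolynomial (Fin r) (Y.residueField y))))) f (Y.fromSpecResidueField y) := by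
  obtain ⟨U, hyU, e, he⟩ := h y
  have hrange : Set.range (Y.fromSpecResidueField y) ⊆ Set.range U.ι := by
    rw [Scheme.range_fromSpecResidueField, Scheme.Opens.range_ι]
    simpa using hyU
  let j' : Spec (Y.residueField y) ⟶ ↑U :=
    IsOpenImmersion.lift U.ι (Y.fromSpecResidueField y) hrange
  have hj' : j' ≫ U.ι = Y.fromSpecResidueField y := IsOpenImmersion.lift_fac _ _ _
  have sq1 := AffineSpace.isPullback_map (n := ULift.{u} (Fin r)) j'
  have sq2 : IsPullback (AffineSpace.map (ULift.{u} (Fin r)) j' ≫ e.inv)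
      (𝔸(ULift.{u} (Fin r); Spec (Y.residueField y)) ↘ Spec (Y.residueField y)) (f ∣_ U) j' := by
    refine IsPullback.of_iso sq1 (Iso.refl _) e.symm (Iso.refl _) (Iso.refl _) ?_ ?_ ?_ ?_
    · simp
    · simp
    · rw [← he]
      simp
    · simp
  have sq3 := (isPullback_morphismRestrict f U).flip
  have sq4 := sq2.paste_horiz sq3
  rw [hj'] at sq4
  let ρ : MvPolynomial (ULift.{u} (Fin r)) (Y.residueField y) ≃ₐ[Y.residueField y]
      MvPolynomial (Fin r) (Y.residueField y) :=
    MvPolynomial.renameEquiv (Y.residueField y) Equiv.ulift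
  let i1 : Spec (CommRingCat.of (MvPolynomial (Fin r) (Y.residueField y))) ≅
      Spec (CommRingCat.of (MvPolynomial (ULift.{u} (Fin r)) (Y.residueField y))) :=
    Scheme.Spec.mapIso (ρ.toRingEquiv.toCommRingCatIso.op)
  let i2 : Spec (CommRingCat.of (MvPolynomial (ULift.{u} (Fin r)) (Y.residueField y))) ≅
      𝔸(ULift.{u} (Fin r); Spec (Y.residueField y)) :=
    (AffineSpace.SpecIso (ULift.{u} (Fin r)) (Y.residueField y)).symm
  refine ⟨(i1 ≪≫ i2).hom ≫ (AffineSpace.map (ULift.{u} (Fin r)) j' ≫ e.inv) ≫ (f ⁻¹ᵁ U).ι, ?_⟩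
  refine IsPullback.of_iso sq4 (i1 ≪≫ i2).symm (Iso.refl _) (Iso.refl _) (Iso.refl _) ?_ ?_ ?_ ?_
  · simp
  · have h1 : (AffineSpace.SpecIso (ULift.{u} (Fin r)) (Y.residueField y)).hom ≫
        Spec.map (CommRingCat.ofHom MvPolynomial.C) =
        𝔸(ULift.{u} (Fin r); Spec (Y.residueField y)) ↘ Spec (Y.residueField y) := by
      rw [← AffineSpace.SpecIso_inv_over, Iso.hom_inv_id_assoc]
    have h2 : i1.inv ≫ Spec.map (CommRingCat.ofHom (algebraMap (Y.residueField y)
        (MvPolynomial (Fin r) (Y.residueField y)))) =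
        Spec.map (CommRingCat.ofHom (MvPolynomial.C :
          Y.residueField y →+* MvPolynomial (ULift.{u} (Fin r)) (Y.residueField y))) := by
      show Spec.map (ρ.toRingEquiv.toCommRingCatIso.inv) ≫ Spec.map _ = _
      rw [← Spec.map_comp]
      congr 1
      apply CommRingCat.hom_ext
      refine RingHom.ext fun a => ?_
      show ρ.symm (algebraMap _ _ a) = MvPolynomial.C a
      rw [AlgEquiv.commutes]
      rfl
    simp only [Iso.refl_hom, Category.comp_id, Iso.symm_hom, Iso.trans_inv, Category.assoc]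
    rw [h2]
    exact h1.symm
  · simp
  · simp

end Groth.Agent.Lib.Helper18.AffBundle
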